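import Groth.Agent.HTorCoh.TensorPC
import Groth.Agent.KFlatLib.Scheme.QCohDerived
import Groth.Agent.KFlatLib.Scheme.LpullLE
import Groth.Agent.KFlatLib.Scheme.FlatDescent
import Groth.Agent.KFlatLib.Scheme.DQCohSections
import Groth.Agent.KFlatLib.Perfect.Top
import Groth.Agent.ZClosLib.CohDescent
import Groth.Agent.S0910
import Groth.Agent.S1054
import Groth.Prelude.Def_HTor

/-!
# Coherence of local hypertor sheaves
-/

set_option backward.isDefEq.respectTransparency false
set_option linter.style.haveILetI false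

universe u

open CategoryTheory CategoryTheory.Limits AlgebraicGeometry

attribute [local instance] HasDerivedCategory.standard

namespace Groth.Agent.HTorCoh

open Groth.Agent.KFlatLib

/-- `Lpr^*E ⊗^L F` has coherent cohomology. -/
theorem isCohD_ltensor_lpull {X Z : Scheme.{u}} [IsLocallyNoetherian X] [IsLocallyNoetherian Z] (p : Z ⟶ X)
    [DCoh.HasLpull p] (E : DCoh.D X) (hE : DCoh.IsCohD E) (a : ℤ) [E.IsLE a]
    (F : CochainComplex Z.Modules ℤ) [DCoh.HasLTensorCx F] (hF : DCoh.IsCohD (DCoh.toD Z F))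
    (b : ℤ) [(DCoh.toD Z F).IsLE b] : DCoh.IsCohD ((DCoh.LTensorCx F).obj ((DCoh.Lpull p).obj E)) := by
  have hpcE : ∀ m, LocPC m ((DCoh.Lpull p).obj E) := fun m =>
    (isPseudoCoherentD_iff _ _).1 (Groth.Agent.S0910.result p m E ((isPseudoCoherentD_iff _ _).2
      (locPC_of_coh (isCohD_isQCohD hE) (fun i _ => hE i) a fun i hi =>
        DerivedCategory.isZero_of_isLE E a i hi)))
  have hqE : DCoh.IsQCohD ((DCoh.Lpull p).obj E) := Groth.Agent.S1054.result p E (isCohD_isQCohD hE)
  have hpcF : ∀ m, LocPC m (DCoh.toD Z F) := fun m =>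
    locPC_of_coh (isCohD_isQCohD hF) (fun i _ => hF i) b fun i hi =>
      DerivedCategory.isZero_of_isLE (DCoh.toD Z F) b i hi
  have hq : DCoh.IsQCohD ((DCoh.LTensorCx F).obj ((DCoh.Lpull p).obj E)) :=
    isQCohD_ltensor F (isCohD_isQCohD hF) hqE
  exact fun i => isCoh_of_locPC hq (locPC_ltensor F hpcF b _ hpcE i) i le_rfl

/-- Cohomology of a complex pulled back along a flat morphism. -/
noncomputable def hdPullCxIso {Y Z : Scheme.{u}} (q : Z ⟶ Y) [Flat q] (Q : CochainComplex Y.Modules ℤ) (i : ℤ) :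
    DCoh.HD (DCoh.toD Z ((HTor.pullCx q).obj Q)) i ≅
      (Scheme.Modules.pullback q).obj (DCoh.HD (DCoh.toD Y Q) i) :=
  haveI := preservesHomology_pullback q
  (DerivedCategory.homologyFunctorFactors Z.Modules i).app _ ≪≫
    (Q.sc i).mapHomologyIso (Scheme.Modules.pullback q) ≪≫
    (Scheme.Modules.pullback q).mapIso ((DerivedCategory.homologyFunctorFactors Y.Modules i).app Q).symm

lemma isCohD_pullCx {Y Z : Scheme.{u}} [IsLocallyNoetherian Z] (q : Z ⟶ Y) [Flat q]
    (Q : CochainComplex Y.Modules ℤ) (hQ : DCoh.IsCohD (DCoh.toD Y Q)) :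
    DCoh.IsCohD (DCoh.toD Z ((HTor.pullCx q).obj Q)) :=
  fun i => isCoh_of_iso (hdPullCxIso q Q i).symm (ZClosLib.isCoh_pullback q (hQ i))

lemma isLE_toD_of_bound {Z : Scheme.{u}} (F : CochainComplex Z.Modules ℤ) (b : ℤ)
    (hb : ∀ i, b < i → IsZero (F.X i)) : (DCoh.toD Z F).IsLE b := by
  rw [DerivedCategory.isLE_iff]
  exact fun i hi => (ShortComplex.isZero_homology_of_isZero_X₂ (F.sc i) (hb i hi)).of_iso
    ((DerivedCategory.homologyFunctorFactors Z.Modules i).app F)

lemma isCohD_inD {X : Scheme.{u}} [IsLocallyNoetherian X] {F : X.Modules} (hF : Coh.IsCoh F) :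
    DCoh.IsCohD (DCoh.inD X F) := fun i => by
  by_cases hi : i = 0
  · subst hi
    exact isCoh_of_iso (hdSingleIso F).symm hF
  · exact isCoh_of_isZero (hd_single_isZero F i hi)

lemma isCohD_pullCx_single {Y Z : Scheme.{u}} [IsLocallyNoetherian Z] (q : Z ⟶ Y) [Flat q]
    (G : Y.Modules) (hG : Coh.IsCoh G) :
    DCoh.IsCohD (DCoh.toD Z ((HTor.pullCx q).obj
      ((HomologicalComplex.single Y.Modules (ComplexShape.up ℤ) 0).obj G))) := fun i => by
  let e := (DerivedCategory.homologyFunctor Y.Modules i).mapIso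
    ((DerivedCategory.singleFunctorIsoCompQ Y.Modules 0).app G)
  let e' := hdPullCxIso q ((HomologicalComplex.single Y.Modules (ComplexShape.up ℤ) 0).obj G) i ≪≫
    (Scheme.Modules.pullback q).mapIso e.symm
  by_cases hi : i = 0
  · subst hi
    exact isCoh_of_iso (e' ≪≫ (Scheme.Modules.pullback q).mapIso (hdSingleIso G)).symm
      (ZClosLib.isCoh_pullback q hG)
  · exact isCoh_of_isZero (((Scheme.Modules.pullback q).map_isZero (hd_single_isZero G i hi)).of_iso e')

end Groth.Agent.HTorCoh
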