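import Groth.Agent.PerfGen7.PerfectTensorPC
import Groth.Agent.KFlatLib.Scheme.CohD

/-!
# The derived tensor product of pseudo-coherent objects is pseudo-coherent
-/

set_option backward.isDefEq.respectTransparency false
set_option linter.style.haveILetI false

universe u

open CategoryTheory CategoryTheory.Limits AlgebraicGeometry Pretriangulated

attribute [local instance] HasDerivedCategory.standard

namespace Groth.Agent.HTorCoh

open Groth.Agent.KFlatLib Groth.Agent.PerfGen7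

variable {X : Scheme.{u}}

/-- A complex bounded in homology stays so after restriction. -/
lemma isLE_pullCx_openImmersion {V : Scheme.{u}} (k : V ⟶ X) [IsOpenImmersion k]
    (M : CochainComplex X.Modules ℤ) (b : ℤ) [(DCoh.toD X M).IsLE b] :
    (DCoh.toD V ((pullCx k).obj M)).IsLE b := by
  rw [DerivedCategory.isLE_iff]
  intro i hi
  have h1 : IsZero (DCoh.HD ((rho k).obj (DCoh.toD X M)) i) :=
    ((Scheme.Modules.restrictFunctor k).map_isZero
      (DerivedCategory.isZero_of_isLE (DCoh.toD X M) b i hi)).of_iso (restrictHDIso k (DCoh.toD X M) i)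
  exact h1.of_iso ((DerivedCategory.homologyFunctor V.Modules i).mapIso
    ((rhoQ k).app M ≪≫ DerivedCategory.Q.mapIso ((restrictPullCxIso k).app M))).symm

/-- The tensor product of K-flat pseudo-coherent complexes is pseudo-coherent. -/
theorem locPC_tensorCx {K₀ M₀ : CochainComplex X.Modules ℤ} (hK₀ : DCoh.IsKFlat K₀) (hM₀ : DCoh.IsKFlat M₀)
    (hK : ∀ m, LocPC m (DCoh.toD X K₀)) (hM : ∀ m, LocPC m (DCoh.toD X M₀))
    (b : ℤ) [(DCoh.toD X M₀).IsLE b] (m : ℤ) :
    LocPC m (DCoh.toD X ((DCoh.tensorCx.obj K₀).obj M₀)) := by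
  refine LocPC.of_local fun x => ?_
  obtain ⟨V, k, _, hx, P, α, hP, hα⟩ := hK (m - b) x
  refine ⟨V, k, inferInstance, hx, ?_⟩
  let KV := (pullCx k).obj K₀
  let MV := (pullCx k).obj M₀
  have hKV : DCoh.IsKFlat KV := isKFlat_pullback k hK₀
  have hMV : DCoh.IsKFlat MV := isKFlat_pullback k hM₀
  haveI := hasLTensorCx MV
  haveI : (DCoh.toD V MV).IsLE b := isLE_pullCx_openImmersion k M₀ b
  let eK : (rho k).obj (DCoh.toD X K₀) ≅ DerivedCategory.Q.obj KV :=
    (rhoQ k).app K₀ ≪≫ DerivedCategory.Q.mapIso ((restrictPullCxIso k).app K₀)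
  have hMVpc : ∀ n, LocPC n (DCoh.toD V MV) := fun n =>
    ((hM n).restrict k).of_iso ((rhoQ k).app M₀ ≪≫ DerivedCategory.Q.mapIso ((restrictPullCxIso k).app M₀))
  obtain ⟨C, g, h, hT⟩ := distinguished_cocone_triangle (α ≫ eK.hom)
  let T := Triangle.mk (α ≫ eK.hom) g h
  obtain ⟨T', hT', ⟨e₁⟩, ⟨e₂⟩, ⟨e₃⟩⟩ := exists_ltensor_triangle MV T hT
  have hC : C.IsLE (m - b - 1) := by
    rw [DerivedCategory.isLE_iff]
    exact fun i hi => isZero_hd_obj₃_of_isPcMap T hT (hα.comp (isPcMap_of_isIso _ _)) i (by omega)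
  haveI := hC
  have h2 : LocPC m T'.obj₂ := by
    refine LocPC.of_iso e₂.symm (locPC_of_isZero m _ fun i hi => ?_)
    haveI : ((DCoh.LTensorCx MV).obj T.obj₃).IsLE (m - b - 1 + b) := isLE_ltensor MV b C (m - b - 1)
    exact DerivedCategory.isZero_of_isLE _ (m - b - 1 + b) i (by omega)
  have hP' : DCoh.IsPerfect (DCoh.toD V P) :=
    (KFlatLib.isPerfect_iff _).2 fun v => ⟨V, 𝟙 V, inferInstance, ⟨v, rfl⟩, _,
      isStrictlyPerfect_restrict (𝟙 V) hP, ⟨((rhoQ (𝟙 V)).app P).symm⟩⟩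
  have h3 : LocPC (m - 1) T'.obj₃ :=
    LocPC.of_iso e₃.symm (((locPC_tensorCx_of_perfect (isKFlat_of_isStrictlyPerfect hP) hMV hP' hMVpc m).of_iso
      (ltensorCxIso MV (isKFlat_of_isStrictlyPerfect hP)).symm).shift 1)
  have := (locPC_two_of_three (m - 1) T' hT').2.2 (by rwa [sub_add_cancel]) h3
  rw [sub_add_cancel] at this
  exact (this.of_iso e₁).of_iso (ltensorCxIso MV hKV ≪≫
    DerivedCategory.Q.mapIso (pullTensorCxIso k K₀ M₀ ≪≫ ((restrictPullCxIso k).app _).symm) ≪≫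
    ((rhoQ k).app _).symm)

/-- The derived tensor product of pseudo-coherent bounded above objects is pseudo-coherent. -/
theorem locPC_ltensor (M : CochainComplex X.Modules ℤ) [DCoh.HasLTensorCx M]
    (hM : ∀ m, LocPC m (DCoh.toD X M)) (b : ℤ) [(DCoh.toD X M).IsLE b] (K : DCoh.D X)
    (hK : ∀ m, LocPC m K) (m : ℤ) : LocPC m ((DCoh.LTensorCx M).obj K) := by
  let K₀ := repK K
  let M₀ := repK (DCoh.toD X M)
  haveI := hasLTensorCx M₀
  obtain ⟨c⟩ := nonempty_LTensorCx_congr_D (repKIso (DCoh.toD X M))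
  haveI : (DCoh.toD X M₀).IsLE b :=
    DerivedCategory.TStructure.t.isLE_of_iso (repKIso (DCoh.toD X M)).symm b
  exact (locPC_tensorCx (isKFlat_repK _) (isKFlat_repK _) (fun n => (hK n).of_iso (repKIso K).symm)
    (fun n => (hM n).of_iso (repKIso _).symm) b m).of_iso
      ((ltensorCxIso M₀ (isKFlat_repK K)).symm ≪≫ c.app _ ≪≫ (DCoh.LTensorCx M).mapIso (repKIso K))

end Groth.Agent.HTorCoh
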